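import Groth.Agent.Lib.CycAlg.Per
import Mathlib.RingTheory.KrullDimension.Module
import Mathlib.RingTheory.Support
import Mathlib.RingTheory.HopkinsLevitzki

/-!
# Multiplying one differential of a periodic complex by a scalar
-/

universe u v

open Pointwise

namespace Groth.Agent.Lib.CycAlg.Smul

open LinearMap Submodule Groth.Agent.Lib.CycAlg.Per

variable {R : Type u} [CommRing R]

theorem length_lt_top_of_supportDim_le_zero [IsNoetherianRing R] (N : Type v) [AddCommGroup N]
    [Module R N] [Module.Finite R N] (h : Module.supportDim R N ≤ 0) : Module.length R N < ⊤ := by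
  rw [lt_top_iff_ne_top]
  rw [Module.supportDim_eq_ringKrullDim_quotient_annihilator] at h
  have : Ring.KrullDimLE 0 (R ⧸ Module.annihilator R N) := Ring.krullDimLE_iff.2 h
  have : IsArtinianRing (R ⧸ Module.annihilator R N) :=
    isArtinianRing_iff_isNoetherianRing_krullDimLE_zero.2
      ⟨isNoetherianRing_of_surjective _ _ (Ideal.Quotient.mk _) Ideal.Quotient.mk_surjective,
        inferInstance⟩
  let := (Module.isTorsionBySet_annihilator R N).module
  have : IsScalarTower R (R ⧸ Module.annihilator R N) N :=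
    (Module.isTorsionBySet_annihilator R N).isScalarTower
  have : Module.Finite (R ⧸ Module.annihilator R N) N := Module.Finite.of_restrictScalars_finite R _ _
  rw [Module.length_eq_of_surjective (R := R ⧸ Module.annihilator R N) (S := R) (M := N)
    Ideal.Quotient.mk_surjective]
  exact Module.length_ne_top

theorem length_lt_top_of_killed [IsNoetherianRing R] {M : Type v} [AddCommGroup M] [Module R M]
    [Module.Finite R M] {x : R} (hx : Module.supportDim R (M ⧸ x • (⊤ : Submodule R M)) ≤ 0)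
    (K : Type v) [AddCommGroup K] [Module R K] [Module.Finite R K]
    (hK : Module.support R K ⊆ Module.support R M) (hxK : ∀ k : K, x • k = 0) :
    Module.length R K < ⊤ := by
  refine length_lt_top_of_supportDim_le_zero K (le_trans ?_ hx)
  have hsub : Module.support R K ⊆ Module.support R (M ⧸ x • (⊤ : Submodule R M)) := by
    rw [← Submodule.ideal_span_singleton_smul, Module.support_quotient]
    intro p hp
    refine ⟨hK hp, ?_⟩
    rw [Module.support_eq_zeroLocus] at hp
    rw [PrimeSpectrum.mem_zeroLocus, SetLike.coe_subset_coe, Ideal.span_le,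
      Set.singleton_subset_iff]
    exact hp (Module.mem_annihilator.2 hxK)
  exact Order.krullDim_le_of_strictMono (fun p => ⟨p.1, hsub p.2⟩) fun a b h => h

variable {M N : Type v} [AddCommGroup M] [Module R M] [AddCommGroup N] [Module R N]

theorem length_perH_smul_left (φ : M →ₗ[R] N) (ψ : N →ₗ[R] M) (h : ∀ y, φ (ψ y) = 0) (x : R) :
    Module.length R (CycAlg.perH (x • φ) ψ) = Module.length R (CycAlg.perH φ ψ) +
      Module.length R (ker (lsmul R (range φ) x)) := by
  let a : CycAlg.perH φ ψ →ₗ[R] CycAlg.perH (x • φ) ψ :=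
    Per.map LinearMap.id (fun z hz => by simp [hz]) (fun y _ => ⟨y, rfl⟩)
  let F : ker (x • φ) →ₗ[R] ker (lsmul R (range φ) x) :=
    (φ.rangeRestrict ∘ₗ (ker (x • φ)).subtype).codRestrict _ fun z => Subtype.ext z.2
  let b : CycAlg.perH (x • φ) ψ →ₗ[R] ker (lsmul R (range φ) x) :=
    Submodule.liftQ _ F (by
      rintro ⟨z, hz⟩ ⟨y, rfl⟩
      exact Subtype.ext (Subtype.ext (h y)))
  refine Module.length_eq_add_of_exact a b ?_ ?_ ?_
  · rw [injective_iff_map_eq_zero]
    intro c hc
    obtain ⟨z, rfl⟩ := cls_surjective c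
    exact (cls_eq_zero _).2 ((cls_eq_zero (φ := x • φ) _).1 hc)
  · rintro ⟨⟨_, z, rfl⟩, hw⟩
    exact ⟨cls (x • φ) ψ ⟨z, congrArg Subtype.val hw⟩, rfl⟩
  · intro c
    obtain ⟨z, rfl⟩ := cls_surjective c
    constructor
    · intro hc
      have hz : φ z.1 = 0 := congrArg (fun w : ker (lsmul R (range φ) x) => w.1.1) hc
      exact ⟨cls φ ψ ⟨z.1, hz⟩, rfl⟩
    · rintro ⟨d, hd⟩
      obtain ⟨w, rfl⟩ := cls_surjective d
      rw [← hd]
      exact Subtype.ext (Subtype.ext w.2)

theorem length_perH_smul_right (φ : M →ₗ[R] N) (ψ : N →ₗ[R] M) (h : ∀ y, ψ (φ y) = 0) (x : R) :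
    Module.length R (CycAlg.perH ψ (x • φ)) =
      Module.length R (range φ ⧸ x • (⊤ : Submodule R (range φ))) +
        Module.length R (CycAlg.perH ψ φ) := by
  let j : range φ →ₗ[R] ker ψ := Submodule.inclusion (by rintro _ ⟨y, rfl⟩; exact h y)
  let a : (range φ ⧸ x • (⊤ : Submodule R (range φ))) →ₗ[R] CycAlg.perH ψ (x • φ) :=
    Submodule.liftQ _ (cls ψ (x • φ) ∘ₗ j) (by
      intro w hw
      obtain ⟨⟨_, y, rfl⟩, -, rfl⟩ := Submodule.mem_smul_pointwise_iff_exists _ _ _ |>.1 hw
      exact (cls_eq_zero _).2 ⟨y, rfl⟩)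
  let b : CycAlg.perH ψ (x • φ) →ₗ[R] CycAlg.perH ψ φ :=
    Per.map LinearMap.id (fun z hz => hz) (fun y _ => ⟨x • y, map_smul φ x y⟩)
  refine Module.length_eq_add_of_exact a b ?_ ?_ ?_
  · rw [injective_iff_map_eq_zero]
    intro c hc
    obtain ⟨⟨_, y, rfl⟩, rfl⟩ := Submodule.Quotient.mk_surjective _ c
    obtain ⟨y', hy'⟩ := (cls_eq_zero (φ := ψ) (ψ := x • φ) _).1 hc
    rw [Submodule.Quotient.mk_eq_zero, Submodule.mem_smul_pointwise_iff_exists]
    exact ⟨⟨φ y', y', rfl⟩, trivial, Subtype.ext hy'⟩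
  · intro c
    obtain ⟨z, rfl⟩ := cls_surjective c
    exact ⟨cls ψ (x • φ) z, rfl⟩
  · intro c
    obtain ⟨z, rfl⟩ := cls_surjective c
    constructor
    · intro hc
      obtain ⟨y, hy⟩ := (cls_eq_zero (φ := ψ) (ψ := φ) _).1 hc
      exact ⟨Submodule.Quotient.mk ⟨φ y, y, rfl⟩, congrArg (cls ψ (x • φ)) (Subtype.ext hy)⟩
    · rintro ⟨d, hd⟩
      obtain ⟨⟨_, y, rfl⟩, rfl⟩ := Submodule.Quotient.mk_surjective _ d
      rw [← hd]
      exact (cls_eq_zero _).2 ⟨y, rfl⟩

theorem length_perH_zero_id (N : Type v) [AddCommGroup N] [Module R N] (x : R) :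
    Module.length R (CycAlg.perH (0 : N →ₗ[R] N) (x • LinearMap.id)) =
        Module.length R (N ⧸ x • (⊤ : Submodule R N)) ∧
      Module.length R (CycAlg.perH (x • (LinearMap.id : N →ₗ[R] N)) (0 : N →ₗ[R] N)) =
        Module.length R (ker (lsmul R N x)) := by
  constructor
  · refine (Submodule.Quotient.equiv _ _
      ((LinearEquiv.ofEq _ _ LinearMap.ker_zero).trans Submodule.topEquiv) ?_).length_eq
    ext w
    rw [Submodule.mem_map, Submodule.mem_smul_pointwise_iff_exists]
    constructor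
    · rintro ⟨z, ⟨y, hy⟩, rfl⟩
      exact ⟨y, trivial, hy⟩
    · rintro ⟨y, -, rfl⟩
      exact ⟨⟨x • y, rfl⟩, ⟨y, rfl⟩, rfl⟩
  · refine (Submodule.quotEquivOfEqBot _ ?_ ≪≫ₗ LinearEquiv.ofEq _ _ rfl).length_eq
    rw [eq_bot_iff]
    rintro z ⟨y, hy⟩
    exact (Submodule.mem_bot R).2 (Subtype.ext hy.symm)

theorem herbrand_smul [IsNoetherianRing R] [Module.Finite R M] (φ ψ : M →ₗ[R] M)
    (p : ∀ y, φ (ψ y) = 0) (q : ∀ y, ψ (φ y) = 0) (hfin : CycAlg.FinCoh R φ ψ) (x : R)
    (hx : Module.supportDim R (M ⧸ x • (⊤ : Submodule R M)) ≤ 0) :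
    CycAlg.FinCoh R (x • φ) ψ ∧ CycAlg.FinCoh R ψ (x • φ) ∧
      CycAlg.herbrand R (x • φ) ψ = CycAlg.herbrand R φ ψ -
        CycAlg.herbrand R (0 : range φ →ₗ[R] range φ) (x • LinearMap.id) ∧
      CycAlg.herbrand R ψ (x • φ) = CycAlg.herbrand R ψ φ +
        CycAlg.herbrand R (0 : range φ →ₗ[R] range φ) (x • LinearMap.id) := by
  have : IsNoetherian R M := inferInstance
  have hs : Module.support R (range φ) ⊆ Module.support R M :=
    Module.support_subset_of_injective (range φ).subtype Subtype.val_injective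
  have hk : Module.length R (ker (lsmul R (range φ) x)) < ⊤ :=
    length_lt_top_of_killed hx _
      ((Module.support_subset_of_injective (ker (lsmul R (range φ) x)).subtype
        Subtype.val_injective).trans hs)
      fun w => Subtype.ext w.2
  have hc : Module.length R (range φ ⧸ x • (⊤ : Submodule R (range φ))) < ⊤ :=
    length_lt_top_of_killed hx _
      ((Module.support_subset_of_surjective _ (Submodule.mkQ_surjective _)).trans hs)
      fun w => by
        obtain ⟨w, rfl⟩ := Submodule.Quotient.mk_surjective _ w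
        rw [← Submodule.Quotient.mk_smul, Submodule.Quotient.mk_eq_zero]
        exact Submodule.smul_mem_pointwise_smul _ _ _ trivial
  have h1 := length_perH_smul_left φ ψ p x
  have h2 := length_perH_smul_right φ ψ q x
  have f1 : Module.length R (CycAlg.perH (x • φ) ψ) < ⊤ := by
    rw [h1, ENat.add_lt_top]; exact ⟨hfin.1, hk⟩
  have f2 : Module.length R (CycAlg.perH ψ (x • φ)) < ⊤ := by
    rw [h2, ENat.add_lt_top]; exact ⟨hc, hfin.2⟩
  refine ⟨⟨f1, f2⟩, ⟨f2, f1⟩, ?_, ?_⟩ <;>
  · simp only [CycAlg.herbrand, (length_perH_zero_id (range φ) x).1,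
      (length_perH_zero_id (range φ) x).2]
    rw [h1, h2, toNat_add hfin.1 hk, toNat_add hc hfin.2]
    push_cast
    ring

end Groth.Agent.Lib.CycAlg.Smul
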