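import Groth.Agent.Lib.CycAlg.Smul
import Mathlib.Algebra.Module.LocalizedModule.Exact
import Mathlib.RingTheory.Localization.AtPrime.Basic
import Mathlib.RingTheory.Localization.Finiteness

/-!
# Injective endomorphisms of modules of dimension at most one
-/

universe u v

namespace Groth.Agent.Lib.CycAlg.Endo

variable {R : Type u} [CommRing R] [IsNoetherianRing R] {M : Type v} [AddCommGroup M] [Module R M]
  [Module.Finite R M]

theorem isArtinian_localized {p : PrimeSpectrum R}
    (hp : Minimal (fun q : PrimeSpectrum R => q ∈ Module.support R M) p) :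
    IsArtinian (Localization.AtPrime p.asIdeal) (LocalizedModule p.asIdeal.primeCompl M) := by
  have : Module.Finite (Localization.AtPrime p.asIdeal) (LocalizedModule p.asIdeal.primeCompl M) :=
    Module.Finite.of_isLocalizedModule p.asIdeal.primeCompl
      (LocalizedModule.mkLinearMap p.asIdeal.primeCompl M)
  have hsub : ∀ q ∈ Module.support (Localization.AtPrime p.asIdeal)
      (LocalizedModule p.asIdeal.primeCompl M),
      PrimeSpectrum.comap (algebraMap R (Localization.AtPrime p.asIdeal)) q = p := by
    intro q hq
    have hle : PrimeSpectrum.comap (algebraMap R (Localization.AtPrime p.asIdeal)) q ≤ p := by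
      intro a ha
      by_contra h
      exact q.isPrime.ne_top (Ideal.eq_top_of_isUnit_mem _ ha
        (IsLocalization.map_units (Localization.AtPrime p.asIdeal)
          (⟨a, h⟩ : p.asIdeal.primeCompl)))
    refine hle.antisymm (hp.2 ?_ hle)
    rw [Module.support_eq_zeroLocus] at hq ⊢
    intro a ha
    refine hq (Module.mem_annihilator.2 fun z => ?_)
    induction z using LocalizedModule.induction_on with
    | _ m s => rw [algebraMap_smul, LocalizedModule.smul'_mk, Module.mem_annihilator.1 ha,
        LocalizedModule.zero_mk]
  have hdim : Module.supportDim (Localization.AtPrime p.asIdeal)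
      (LocalizedModule p.asIdeal.primeCompl M) ≤ 0 := by
    have : Subsingleton (Module.support (Localization.AtPrime p.asIdeal)
        (LocalizedModule p.asIdeal.primeCompl M)) := ⟨fun a b => Subtype.ext
      (PrimeSpectrum.localization_comap_injective _ p.asIdeal.primeCompl
        ((hsub a.1 a.2).trans (hsub b.1 b.2).symm))⟩
    exact Order.krullDim_nonpos_of_subsingleton
  exact (isFiniteLength_iff_isNoetherian_isArtinian.1
    (Module.length_ne_top_iff.1 (Smul.length_lt_top_of_supportDim_le_zero _ hdim).ne)).2

/-- An injective endomorphism is an isomorphism at the minimal points of the support. -/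
theorem notMem_support_coker {p : PrimeSpectrum R}
    (hp : Minimal (fun q : PrimeSpectrum R => q ∈ Module.support R M) p) (g : M →ₗ[R] M)
    (hg : Function.Injective g) : p ∉ Module.support R (M ⧸ LinearMap.range g) := by
  have := isArtinian_localized hp
  have hs := IsArtinian.surjective_of_injective_endomorphism
    (LocalizedModule.map p.asIdeal.primeCompl g) (LocalizedModule.map_injective _ g hg)
  rw [Module.notMem_support_iff']
  intro z
  obtain ⟨m, rfl⟩ := Submodule.Quotient.mk_surjective _ z
  obtain ⟨w, hw⟩ := hs (LocalizedModule.mk m 1)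
  induction w using LocalizedModule.induction_on with
  | _ y s =>
    rw [LocalizedModule.map_mk, LocalizedModule.mk_eq] at hw
    obtain ⟨t, ht⟩ := hw
    refine ⟨(t * s : p.asIdeal.primeCompl).1, (t * s).2, ?_⟩
    rw [← Submodule.Quotient.mk_smul, Submodule.Quotient.mk_eq_zero]
    refine ⟨(t : R) • y, ?_⟩
    rw [map_smul, Submonoid.coe_mul, mul_smul]
    simpa [Submonoid.smul_def] using ht

theorem length_coker_lt_top (hdim : Module.supportDim R M ≤ 1) (g : M →ₗ[R] M)
    (hg : Function.Injective g) : Module.length R (M ⧸ LinearMap.range g) < ⊤ := by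
  apply Smul.length_lt_top_of_supportDim_le_zero
  have hsub : Module.support R (M ⧸ LinearMap.range g) ⊆ Module.support R M :=
    Module.support_subset_of_surjective _ (Submodule.mkQ_surjective _)
  have hmax : ∀ p ∈ Module.support R (M ⧸ LinearMap.range g),
      ∀ q ∈ Module.support R (M ⧸ LinearMap.range g), ¬ p < q := by
    intro p hp q hq hpq
    refine notMem_support_coker ⟨hsub hp, fun r hr hrp => ?_⟩ g hg hp
    by_contra hne
    have hlt : r < p := lt_of_le_not_ge hrp hne
    let s : LTSeries (Module.support R M) :=
      ((RelSeries.singleton _ ⟨r, hr⟩).snoc ⟨p, hsub hp⟩ hlt).snoc ⟨q, hsub hq⟩ (by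
        simp only [RelSeries.last_snoc]; exact hpq)
    have := (Order.LTSeries.length_le_krullDim s).trans hdim
    rw [show s.length = 2 from rfl] at this
    norm_cast at this
  refine Order.krullDim_nonpos_iff_forall_isMax.2 fun a b hab => ?_
  by_contra h
  exact hmax a.1 a.2 b.1 b.2 (lt_of_le_not_ge hab h)

end Groth.Agent.Lib.CycAlg.Endo
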