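import Groth.Agent.S1833
import Groth.Agent.Lib.CycAlg.Endo
import Groth.Agent.Lib.Cyc.Ord
import Mathlib.RingTheory.LocalRing.ResidueField.Ideal
import Mathlib.Data.ENat.BigOperators
import Mathlib.RingTheory.Ideal.MinimalPrime.Noetherian

/-!
# `length (M / xM)` for a regular element over a one-dimensional ring
-/

set_option autoImplicit false

universe u

namespace Groth.Agent.Lib.CycAlg.OrdSum

open Pointwise

variable {A : Type u} [CommRing A] [IsNoetherianRing A] [IsLocalRing A] (hA : ringKrullDim A = 1)

include hA in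
theorem mem_minimalPrimes_iff (q : PrimeSpectrum A) :
    q.asIdeal ∈ minimalPrimes A ↔ q.asIdeal ≠ IsLocalRing.maximalIdeal A := by
  constructor
  · intro h he
    have : ringKrullDim A ≤ 0 := by
      have : Subsingleton (PrimeSpectrum A) := ⟨fun p p' => by
        have key : ∀ p : PrimeSpectrum A, p = q := fun p => PrimeSpectrum.ext (le_antisymm
          (he ▸ IsLocalRing.le_maximalIdeal p.2.ne_top) (h.2 ⟨p.2, bot_le⟩ (he ▸ IsLocalRing.le_maximalIdeal p.2.ne_top)))
        rw [key p, key p']⟩
      exact Order.krullDim_nonpos_of_subsingleton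
    rw [hA] at this
    exact absurd this (by decide)
  · intro h
    refine ⟨⟨q.2, bot_le⟩, fun p ⟨hp, _⟩ hle => ?_⟩
    by_contra hne
    have h1 : (⟨p, hp⟩ : PrimeSpectrum A) < q := lt_of_le_not_ge hle hne
    have h2 : q < ⟨IsLocalRing.maximalIdeal A, inferInstance⟩ :=
      lt_of_le_of_ne (IsLocalRing.le_maximalIdeal q.2.ne_top) fun e => h (congrArg PrimeSpectrum.asIdeal e)
    have : (2 : WithBot ℕ∞) ≤ ringKrullDim A :=
      Order.LTSeries.length_le_krullDim ((RelSeries.singleton _ (⟨p, hp⟩ : PrimeSpectrum A)).snoc q h1 |>.snoc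
        ⟨IsLocalRing.maximalIdeal A, inferInstance⟩ (by erw [RelSeries.last_snoc]; exact h2))
    rw [hA] at this
    exact absurd this (by decide)

include hA in
/-- `length (M / xM)` is the sum of the orders of `x` weighted by the lengths at the minimal primes. -/
theorem length_quot_smul {M : Type u} [AddCommGroup M] [Module A M] [Module.Finite A M] {x : A}
    (hx : ∀ q ∈ minimalPrimes A, x ∉ q) (hreg : Function.Injective (LinearMap.lsmul A M x))
    (hsupp : Module.support A M = Set.univ) :
    Module.length A (M ⧸ x • (⊤ : Submodule A M)) < ⊤ ∧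
      ((Module.length A (M ⧸ x • (⊤ : Submodule A M))).toNat : ℤ) = ∑ᶠ (q : PrimeSpectrum A)
        (_ : q.asIdeal ∈ minimalPrimes A),
        ((Module.length (Localization.AtPrime q.asIdeal) (LocalizedModule q.asIdeal.primeCompl M)).toNat : ℤ) *
          ((Ring.ord (A ⧸ q.asIdeal) (Ideal.Quotient.mk q.asIdeal x)).toNat : ℤ) := by
  have h1 : Module.supportDim A M ≤ 1 := (Module.supportDim_le_ringKrullDim A M).trans hA.le
  have h0 : Module.supportDim A (M ⧸ x • (⊤ : Submodule A M)) ≤ 0 := by
    have : Subsingleton (Module.support A (M ⧸ x • (⊤ : Submodule A M))) := by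
      refine ⟨fun p p' => Subtype.ext ?_⟩
      have key : ∀ p : PrimeSpectrum A, p ∈ Module.support A (M ⧸ x • (⊤ : Submodule A M)) →
          p.asIdeal = IsLocalRing.maximalIdeal A := by
        intro p hp
        by_contra hne
        refine hx p.asIdeal ((mem_minimalPrimes_iff hA p).2 hne) ?_
        rw [Module.support_eq_zeroLocus, PrimeSpectrum.mem_zeroLocus] at hp
        refine hp (Module.mem_annihilator.2 fun z => ?_)
        obtain ⟨m, rfl⟩ := Submodule.Quotient.mk_surjective _ z
        rw [← Submodule.Quotient.mk_smul, Submodule.Quotient.mk_eq_zero]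
        exact Submodule.smul_mem_pointwise_smul m x ⊤ trivial
      exact PrimeSpectrum.ext ((key _ p.2).trans (key _ p'.2).symm)
    exact Order.krullDim_nonpos_of_subsingleton
  have hker : Module.length A (LinearMap.ker (LinearMap.lsmul A M x)) = 0 := by
    rw [Module.length_eq_zero_iff, LinearMap.ker_eq_bot.2 hreg]
    infer_instance
  have hfin : {q : PrimeSpectrum A | q.asIdeal ∈ minimalPrimes A}.Finite :=
    Set.Finite.preimage (fun p _ p' _ h => PrimeSpectrum.ext h) (minimalPrimes.finite_of_isNoetherianRing A)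
  have hset : ∀ q : PrimeSpectrum A, (q ∈ Module.support A M ∧ q.asIdeal ≠ IsLocalRing.maximalIdeal A) ↔
      q.asIdeal ∈ minimalPrimes A := fun q => by rw [mem_minimalPrimes_iff hA, hsupp]; simp
  have hsum := Groth.Agent.S1833.result A M x h1 h0
  rw [hker, zero_add] at hsum
  simp only [hset] at hsum
  have ht : Module.length A (M ⧸ x • (⊤ : Submodule A M)) < ⊤ :=
    Smul.length_lt_top_of_supportDim_le_zero _ h0
  refine ⟨ht, ?_⟩
  have hterm : ∀ q ∈ hfin.toFinset, Ring.ord (A ⧸ q.asIdeal) (Ideal.Quotient.mk q.asIdeal x) *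
      Module.length (Localization.AtPrime q.asIdeal) (LocalizedModule q.asIdeal.primeCompl M) ≠ ⊤ := by
    intro q hq
    rw [hfin.mem_toFinset] at hq
    have : Ring.KrullDimLE 1 (A ⧸ q.asIdeal) :=
      Ring.krullDimLE_iff.2 ((ringKrullDim_quotient_le q.asIdeal).trans hA.le)
    refine WithTop.mul_ne_top (Ring.ord_ne_top (mem_nonZeroDivisors_of_ne_zero ?_)) ?_
    · exact fun h => hx _ hq (Ideal.Quotient.eq_zero_iff_mem.1 h)
    · have hmin : Minimal (fun p : PrimeSpectrum A => p ∈ Module.support A M) q :=
        ⟨by rw [hsupp]; trivial, fun p _ hle => hq.2 ⟨p.2, bot_le⟩ hle⟩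
      have := Endo.isArtinian_localized hmin
      have : Module.Finite (Localization.AtPrime q.asIdeal) (LocalizedModule q.asIdeal.primeCompl M) :=
        Module.Finite.of_isLocalizedModule q.asIdeal.primeCompl (LocalizedModule.mkLinearMap q.asIdeal.primeCompl M)
      exact Module.length_ne_top
  rw [hsum]
  erw [finsum_mem_eq_finite_toFinset_sum _ hfin, finsum_mem_eq_finite_toFinset_sum _ hfin]
  rw [ENat.toNat_sum hterm, Nat.cast_sum]
  refine Finset.sum_congr rfl fun q _ => ?_
  rw [ENat.toNat_mul, Nat.cast_mul, mul_comm]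

/-- Lengths through multiplication by a regular element. -/
theorem length_quot_comap {R : Type u} [CommRing R] {M : Type u} [AddCommGroup M] [Module R M] (x : R)
    (Q : Submodule R M)
    (hQ : Q ≤ LinearMap.range (LinearMap.lsmul R M x)) :
    Module.length R (M ⧸ Q) = Module.length R (M ⧸ Q.comap (LinearMap.lsmul R M x)) +
      Module.length R (M ⧸ x • (⊤ : Submodule R M)) := by
  have hr : LinearMap.range (LinearMap.lsmul R M x) = x • (⊤ : Submodule R M) := by
    ext y
    simp [Submodule.mem_smul_pointwise_iff_exists]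
  refine Module.length_eq_add_of_exact ((Q.comap (LinearMap.lsmul R M x)).mapQ Q (LinearMap.lsmul R M x) le_rfl)
    (Submodule.factor (hQ.trans hr.le)) ?_ (Submodule.factor_surjective _) ?_
  · rw [← LinearMap.ker_eq_bot]
    exact Submodule.ker_liftQ_eq_bot _ _ _ (by rw [LinearMap.ker_comp, Submodule.ker_mkQ])
  · rw [LinearMap.exact_iff]
    simp only [Submodule.factor, Submodule.mapQ, Submodule.range_liftQ]
    rw [Submodule.ker_liftQ, LinearMap.range_comp, LinearMap.ker_comp, Submodule.ker_mkQ, Submodule.comap_id, hr]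

end Groth.Agent.Lib.CycAlg.OrdSum
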