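import Groth.Prelude.Def_CycAlg
import Mathlib.RingTheory.Length
import Mathlib.Algebra.Exact.Basic
import Mathlib.Data.ENat.Basic

/-!
# Cohomology of periodic complexes: functoriality and exact sequences
-/

universe u v

namespace Groth.Agent.Lib.CycAlg.Per

open LinearMap Submodule

variable {R : Type u} [CommRing R] {M N M' N' : Type v}
  [AddCommGroup M] [Module R M] [AddCommGroup N] [Module R N]
  [AddCommGroup M'] [Module R M'] [AddCommGroup N'] [Module R N']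
  {φ : M →ₗ[R] N} {ψ : N →ₗ[R] M} {φ' : M' →ₗ[R] N'} {ψ' : N' →ₗ[R] M'}

/-- the class of a cycle -/
abbrev cls (φ : M →ₗ[R] N) (ψ : N →ₗ[R] M) : ker φ →ₗ[R] CycAlg.perH φ ψ :=
  (Submodule.submoduleOf (range ψ) (ker φ)).mkQ

theorem cls_surjective : Function.Surjective (cls φ ψ) := Submodule.mkQ_surjective _

theorem cls_eq_zero (z : ker φ) : cls φ ψ z = 0 ↔ ∃ y, ψ y = z.1 :=
  (Submodule.Quotient.mk_eq_zero _).trans Iff.rfl

theorem cls_eq_iff (z z' : ker φ) : cls φ ψ z = cls φ ψ z' ↔ ∃ y, ψ y = z.1 - z'.1 := by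
  rw [← sub_eq_zero, ← map_sub, cls_eq_zero]; rfl

/-- The map induced by `f`, which carries cycles to cycles and boundaries to boundaries. -/
noncomputable def map (f : M →ₗ[R] M') (h₁ : ∀ z, φ z = 0 → φ' (f z) = 0)
    (h₂ : ∀ y, φ (ψ y) = 0 → ∃ y', ψ' y' = f (ψ y)) :
    CycAlg.perH φ ψ →ₗ[R] CycAlg.perH φ' ψ' :=
  Submodule.liftQ _ (cls φ' ψ' ∘ₗ f.restrict h₁) (by
    rintro ⟨z, hz⟩ ⟨y, rfl⟩
    exact (cls_eq_zero (φ := φ') (ψ := ψ') _).2 (h₂ y hz))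

theorem map_cls (f : M →ₗ[R] M') (h₁ : ∀ z, φ z = 0 → φ' (f z) = 0)
    (h₂ : ∀ y, φ (ψ y) = 0 → ∃ y', ψ' y' = f (ψ y)) (z : ker φ) :
    map (φ' := φ') (ψ' := ψ') f h₁ h₂ (cls φ ψ z) = cls φ' ψ' ⟨f z.1, h₁ z.1 z.2⟩ := rfl

/-- `toNat` of a sum of finite extended naturals. -/
theorem toNat_add {a b : ℕ∞} (ha : a < ⊤) (hb : b < ⊤) :
    (a + b).toNat = a.toNat + b.toNat := ENat.toNat_add ha.ne hb.ne

theorem length_eq_ker_add_range {A B : Type v} [AddCommGroup A] [Module R A] [AddCommGroup B]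
    [Module R B] (f : A →ₗ[R] B) :
    Module.length R A = Module.length R (ker f) + Module.length R (range f) :=
  Module.length_eq_add_of_exact (ker f).subtype f.rangeRestrict Subtype.val_injective
    f.surjective_rangeRestrict (fun x => by
      simp only [Set.mem_range, Subtype.exists, Submodule.subtype_apply, exists_prop,
        exists_eq_right]
      rw [LinearMap.mem_ker, Subtype.ext_iff]; rfl)

theorem length_split {A B C : Type v} [AddCommGroup A] [Module R A] [AddCommGroup B] [Module R B]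
    [AddCommGroup C] [Module R C] {f : A →ₗ[R] B} {g : B →ₗ[R] C} (h : Function.Exact f g) :
    Module.length R B = Module.length R (range f) + Module.length R (range g) := by
  rw [length_eq_ker_add_range g, h.linearMap_ker_eq]

/-- A six-term cyclic exact sequence. -/
structure Hexagon (H₁ H₂ H₃ H₄ H₅ H₆ : Type v) [AddCommGroup H₁] [Module R H₁]
    [AddCommGroup H₂] [Module R H₂] [AddCommGroup H₃] [Module R H₃] [AddCommGroup H₄] [Module R H₄]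
    [AddCommGroup H₅] [Module R H₅] [AddCommGroup H₆] [Module R H₆] where
  /-- map -/
  f₁ : H₁ →ₗ[R] H₂
  /-- map -/
  f₂ : H₂ →ₗ[R] H₃
  /-- map -/
  f₃ : H₃ →ₗ[R] H₄
  /-- map -/
  f₄ : H₄ →ₗ[R] H₅
  /-- map -/
  f₅ : H₅ →ₗ[R] H₆
  /-- map -/
  f₆ : H₆ →ₗ[R] H₁
  ex₁ : Function.Exact f₆ f₁
  ex₂ : Function.Exact f₁ f₂
  ex₃ : Function.Exact f₂ f₃
  ex₄ : Function.Exact f₃ f₄
  ex₅ : Function.Exact f₄ f₅
  ex₆ : Function.Exact f₅ f₆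

namespace Hexagon

variable {H₁ H₂ H₃ H₄ H₅ H₆ : Type v} [AddCommGroup H₁] [Module R H₁]
    [AddCommGroup H₂] [Module R H₂] [AddCommGroup H₃] [Module R H₃] [AddCommGroup H₄] [Module R H₄]
    [AddCommGroup H₅] [Module R H₅] [AddCommGroup H₆] [Module R H₆]

/-- Rotating by one step. -/
def rotate (X : Hexagon (R := R) H₁ H₂ H₃ H₄ H₅ H₆) : Hexagon (R := R) H₂ H₃ H₄ H₅ H₆ H₁ :=
  ⟨X.f₂, X.f₃, X.f₄, X.f₅, X.f₆, X.f₁, X.ex₂, X.ex₃, X.ex₄, X.ex₅, X.ex₆, X.ex₁⟩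

/-- In each exact six-term sequence a module between two of finite length has finite length. -/
theorem lt_top (X : Hexagon (R := R) H₁ H₂ H₃ H₄ H₅ H₆) (h₁ : Module.length R H₁ < ⊤)
    (h₃ : Module.length R H₃ < ⊤) : Module.length R H₂ < ⊤ := by
  rw [length_split X.ex₂, ENat.add_lt_top]
  exact ⟨(Module.length_le_of_surjective X.f₁.rangeRestrict X.f₁.surjective_rangeRestrict).trans_lt h₁,
    (Module.length_le_of_injective (range X.f₂).subtype Subtype.val_injective).trans_lt h₃⟩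

theorem alternating (X : Hexagon (R := R) H₁ H₂ H₃ H₄ H₅ H₆) (h₁ : Module.length R H₁ < ⊤)
    (h₂ : Module.length R H₂ < ⊤) (h₃ : Module.length R H₃ < ⊤) (h₄ : Module.length R H₄ < ⊤)
    (h₅ : Module.length R H₅ < ⊤) (h₆ : Module.length R H₆ < ⊤) :
    ((Module.length R H₁).toNat : ℤ) - (Module.length R H₂).toNat + (Module.length R H₃).toNat -
      (Module.length R H₄).toNat + (Module.length R H₅).toNat - (Module.length R H₆).toNat = 0 := by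
  rw [length_split X.ex₁, ENat.add_lt_top] at h₁
  rw [length_split X.ex₂, ENat.add_lt_top] at h₂
  rw [length_split X.ex₃, ENat.add_lt_top] at h₃
  rw [length_split X.ex₄, ENat.add_lt_top] at h₄
  rw [length_split X.ex₅, ENat.add_lt_top] at h₅
  rw [length_split X.ex₆, ENat.add_lt_top] at h₆
  rw [length_split X.ex₁, length_split X.ex₂, length_split X.ex₃, length_split X.ex₄,
    length_split X.ex₅, length_split X.ex₆, toNat_add h₁.1 h₁.2, toNat_add h₂.1 h₂.2,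
    toNat_add h₃.1 h₃.2, toNat_add h₄.1 h₄.2, toNat_add h₅.1 h₅.2, toNat_add h₆.1 h₆.2]
  push_cast
  ring

end Hexagon

section SES

variable {M₁ N₁ M₂ N₂ M₃ N₃ : Type v} [AddCommGroup M₁] [Module R M₁] [AddCommGroup N₁]
  [Module R N₁] [AddCommGroup M₂] [Module R M₂] [AddCommGroup N₂] [Module R N₂]
  [AddCommGroup M₃] [Module R M₃] [AddCommGroup N₃] [Module R N₃]

/-- A short exact sequence of periodic complexes, in elementwise form. -/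
structure SES (φ₁ : M₁ →ₗ[R] N₁) (ψ₁ : N₁ →ₗ[R] M₁) (φ₂ : M₂ →ₗ[R] N₂) (ψ₂ : N₂ →ₗ[R] M₂)
    (φ₃ : M₃ →ₗ[R] N₃) (ψ₃ : N₃ →ₗ[R] M₃) (f₁ : M₁ →ₗ[R] M₂) (g₁ : N₁ →ₗ[R] N₂)
    (f₂ : M₂ →ₗ[R] M₃) (g₂ : N₂ →ₗ[R] N₃) : Prop where
  p₁ : ∀ y, φ₁ (ψ₁ y) = 0
  q₁ : ∀ y, ψ₁ (φ₁ y) = 0
  p₂ : ∀ y, φ₂ (ψ₂ y) = 0
  q₂ : ∀ y, ψ₂ (φ₂ y) = 0
  cφ₁ : ∀ x, φ₂ (f₁ x) = g₁ (φ₁ x)
  cψ₁ : ∀ x, ψ₂ (g₁ x) = f₁ (ψ₁ x)
  cφ₂ : ∀ x, φ₃ (f₂ x) = g₂ (φ₂ x)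
  cψ₂ : ∀ x, ψ₃ (g₂ x) = f₂ (ψ₂ x)
  inj_f : Function.Injective f₁
  inj_g : Function.Injective g₁
  surj_f : Function.Surjective f₂
  surj_g : Function.Surjective g₂
  exf : Function.Exact f₁ f₂
  exg : Function.Exact g₁ g₂

variable {φ₁ : M₁ →ₗ[R] N₁} {ψ₁ : N₁ →ₗ[R] M₁} {φ₂ : M₂ →ₗ[R] N₂} {ψ₂ : N₂ →ₗ[R] M₂}
  {φ₃ : M₃ →ₗ[R] N₃} {ψ₃ : N₃ →ₗ[R] M₃} {f₁ : M₁ →ₗ[R] M₂} {g₁ : N₁ →ₗ[R] N₂}
  {f₂ : M₂ →ₗ[R] M₃} {g₂ : N₂ →ₗ[R] N₃}

namespace SES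

theorem symm (S : SES φ₁ ψ₁ φ₂ ψ₂ φ₃ ψ₃ f₁ g₁ f₂ g₂) :
    SES ψ₁ φ₁ ψ₂ φ₂ ψ₃ φ₃ g₁ f₁ g₂ f₂ :=
  ⟨S.q₁, S.p₁, S.q₂, S.p₂, S.cψ₁, S.cφ₁, S.cψ₂, S.cφ₂, S.inj_g, S.inj_f, S.surj_g, S.surj_f,
    S.exg, S.exf⟩

variable (S : SES φ₁ ψ₁ φ₂ ψ₂ φ₃ ψ₃ f₁ g₁ f₂ g₂)
include S

/-- first map -/
noncomputable def a : CycAlg.perH φ₁ ψ₁ →ₗ[R] CycAlg.perH φ₂ ψ₂ :=
  map f₁ (fun z hz => by rw [S.cφ₁, hz, map_zero]) (fun y _ => ⟨g₁ y, S.cψ₁ y⟩)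

/-- second map -/
noncomputable def b : CycAlg.perH φ₂ ψ₂ →ₗ[R] CycAlg.perH φ₃ ψ₃ :=
  map f₂ (fun z hz => by rw [S.cφ₂, hz, map_zero]) (fun y _ => ⟨g₂ y, S.cψ₂ y⟩)

theorem exists_preimage {x : M₂} (hx : φ₃ (f₂ x) = 0) : ∃ n, g₁ n = φ₂ x :=
  (S.exg (φ₂ x)).1 (by rw [← S.cφ₂, hx])

/-- lifts of cycles -/
abbrev pre (_ : SES φ₁ ψ₁ φ₂ ψ₂ φ₃ ψ₃ f₁ g₁ f₂ g₂) : Submodule R M₂ := ker (φ₃ ∘ₗ f₂)

/-- the connecting map on lifts -/
noncomputable def δaux : S.pre →ₗ[R] CycAlg.perH ψ₁ φ₁ :=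
  cls ψ₁ φ₁ ∘ₗ
    { toFun := fun x => ⟨(S.exists_preimage x.2).choose, S.inj_f (by
          rw [← S.cψ₁, (S.exists_preimage x.2).choose_spec, S.q₂, map_zero])⟩
      map_add' := fun x y => Subtype.ext (S.inj_g (by
          show g₁ _ = g₁ (_ + _)
          rw [(S.exists_preimage (x + y).2).choose_spec, map_add,
            (S.exists_preimage x.2).choose_spec, (S.exists_preimage y.2).choose_spec]
          exact map_add φ₂ x.1 y.1))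
      map_smul' := fun r x => Subtype.ext (S.inj_g (by
          show g₁ _ = g₁ (r • _)
          rw [(S.exists_preimage (r • x).2).choose_spec, map_smul,
            (S.exists_preimage x.2).choose_spec]
          exact map_smul φ₂ r x.1)) }

theorem δaux_eq (x : S.pre) (n : ker ψ₁) (h : g₁ n.1 = φ₂ x.1) : S.δaux x = cls ψ₁ φ₁ n := by
  show cls ψ₁ φ₁ _ = _
  congr 1
  exact Subtype.ext (S.inj_g ((S.exists_preimage x.2).choose_spec.trans h.symm))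

/-- projection of lifts -/
noncomputable def proj : S.pre →ₗ[R] CycAlg.perH φ₃ ψ₃ :=
  cls φ₃ ψ₃ ∘ₗ f₂.restrict (p := S.pre) (q := ker φ₃) fun _ h => h

theorem proj_surjective : Function.Surjective S.proj := by
  intro c
  obtain ⟨⟨z, hz⟩, rfl⟩ := cls_surjective c
  obtain ⟨x, rfl⟩ := S.surj_f z
  exact ⟨⟨x, hz⟩, rfl⟩

theorem ker_proj_le : ker S.proj ≤ ker S.δaux := by
  intro x hx
  obtain ⟨y, hy⟩ := (cls_eq_zero (φ := φ₃) (ψ := ψ₃) _).1 hx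
  obtain ⟨y₂, rfl⟩ := S.surj_g y
  obtain ⟨w, hw⟩ := (S.exf (x.1 - ψ₂ y₂)).1 (by
    rw [map_sub, ← S.cψ₂, hy]; exact sub_self _)
  rw [LinearMap.mem_ker, S.δaux_eq x ⟨φ₁ w, S.q₁ w⟩ (by
    rw [← S.cφ₁, hw, map_sub, S.p₂, sub_zero])]
  exact (cls_eq_zero _).2 ⟨w, rfl⟩

/-- the connecting map -/
noncomputable def δ : CycAlg.perH φ₃ ψ₃ →ₗ[R] CycAlg.perH ψ₁ φ₁ :=
  (Submodule.liftQ _ S.δaux S.ker_proj_le) ∘ₗ
    (S.proj.quotKerEquivOfSurjective S.proj_surjective).symm.toLinearMap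

theorem δ_proj (x : S.pre) : S.δ (S.proj x) = S.δaux x := by
  have : (S.proj.quotKerEquivOfSurjective S.proj_surjective).symm (S.proj x) =
      Submodule.Quotient.mk x := by
    rw [LinearEquiv.symm_apply_eq]; rfl
  show Submodule.liftQ _ S.δaux S.ker_proj_le _ = _
  rw [LinearEquiv.coe_coe, this, Submodule.liftQ_apply]

theorem exact_ab : Function.Exact S.a S.b := by
  intro c
  constructor
  · intro hc
    obtain ⟨⟨z, hz⟩, rfl⟩ := cls_surjective c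
    obtain ⟨y, hy⟩ := (cls_eq_zero (φ := φ₃) (ψ := ψ₃) _).1 hc
    obtain ⟨y₂, rfl⟩ := S.surj_g y
    obtain ⟨w, hw⟩ := (S.exf (z - ψ₂ y₂)).1 (by rw [map_sub, ← S.cψ₂, hy]; exact sub_self _)
    refine ⟨cls φ₁ ψ₁ ⟨w, S.inj_g ?_⟩, (cls_eq_iff _ _).2 ⟨-y₂, ?_⟩⟩
    · rw [← S.cφ₁, hw, map_sub, S.p₂, show φ₂ z = 0 from hz, sub_zero, map_zero]
    · show ψ₂ (-y₂) = f₁ w - z
      rw [hw, map_neg]; abel
  · rintro ⟨a, rfl⟩
    obtain ⟨z, rfl⟩ := cls_surjective a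
    exact (cls_eq_zero _).2 ⟨0, by
      show ψ₃ 0 = f₂ (f₁ z.1)
      rw [map_zero, S.exf.apply_apply_eq_zero]⟩

theorem exact_bδ : Function.Exact S.b S.δ := by
  intro c
  obtain ⟨x, rfl⟩ := S.proj_surjective c
  rw [S.δ_proj]
  obtain ⟨n, hn⟩ := S.exists_preimage x.2
  have hn' : ψ₁ n = 0 := S.inj_f (by rw [← S.cψ₁, hn, S.q₂, map_zero])
  rw [S.δaux_eq x ⟨n, hn'⟩ hn, cls_eq_zero]
  constructor
  · rintro ⟨w, hw : φ₁ w = n⟩
    refine ⟨cls φ₂ ψ₂ ⟨x.1 - f₁ w, ?_⟩, (cls_eq_iff _ _).2 ⟨0, ?_⟩⟩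
    · rw [LinearMap.mem_ker, map_sub, S.cφ₁, hw, hn, sub_self]
    · show ψ₃ 0 = f₂ (x.1 - f₁ w) - f₂ x.1
      rw [map_zero, map_sub, S.exf.apply_apply_eq_zero, sub_zero, sub_self]
  · rintro ⟨a, ha⟩
    obtain ⟨z, rfl⟩ := cls_surjective a
    obtain ⟨y, hy : ψ₃ y = f₂ z.1 - f₂ x.1⟩ := (cls_eq_iff (φ := φ₃) (ψ := ψ₃) _ _).1 ha
    obtain ⟨y₂, rfl⟩ := S.surj_g y
    obtain ⟨w, hw⟩ := (S.exf (z.1 - x.1 - ψ₂ y₂)).1 (by
      rw [map_sub, map_sub, ← S.cψ₂, hy]; exact sub_self _)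
    refine ⟨-w, S.inj_g ?_⟩
    show g₁ (φ₁ (-w)) = g₁ n
    rw [map_neg, map_neg, ← S.cφ₁, hw, map_sub, map_sub, S.p₂, show φ₂ z.1 = 0 from z.2, hn]
    abel

theorem exact_δa : Function.Exact S.δ S.symm.a := by
  intro c
  obtain ⟨⟨n, hn⟩, rfl⟩ := cls_surjective c
  constructor
  · intro hc
    obtain ⟨m, hm : φ₂ m = g₁ n⟩ := (cls_eq_zero (φ := ψ₂) (ψ := φ₂) _).1 hc
    have hx : m ∈ S.pre := by
      show φ₃ (f₂ m) = 0
      rw [S.cφ₂, hm, S.exg.apply_apply_eq_zero]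
    exact ⟨S.proj ⟨m, hx⟩, (S.δ_proj _).trans (S.δaux_eq _ ⟨n, hn⟩ hm.symm)⟩
  · rintro ⟨a, ha⟩
    obtain ⟨x, rfl⟩ := S.proj_surjective a
    rw [S.δ_proj] at ha
    obtain ⟨k, hk⟩ := S.exists_preimage x.2
    have hk' : ψ₁ k = 0 := S.inj_f (by rw [← S.cψ₁, hk, S.q₂, map_zero])
    rw [S.δaux_eq x ⟨k, hk'⟩ hk] at ha
    rw [← ha]
    exact (cls_eq_zero _).2 ⟨x.1, hk.symm⟩

/-- The exact hexagon of a short exact sequence of periodic complexes. -/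
noncomputable def hexagon : Hexagon (R := R) (CycAlg.perH φ₁ ψ₁) (CycAlg.perH φ₂ ψ₂)
    (CycAlg.perH φ₃ ψ₃) (CycAlg.perH ψ₁ φ₁) (CycAlg.perH ψ₂ φ₂) (CycAlg.perH ψ₃ φ₃) where
  f₁ := S.a
  f₂ := S.b
  f₃ := S.δ
  f₄ := S.symm.a
  f₅ := S.symm.b
  f₆ := S.symm.δ
  ex₁ := S.symm.exact_δa
  ex₂ := S.exact_ab
  ex₃ := S.exact_bδ
  ex₄ := S.exact_δa
  ex₅ := S.symm.exact_ab
  ex₆ := S.symm.exact_bδ

theorem herbrand_eq
    (htwo : (CycAlg.FinCoh R φ₁ ψ₁ ∧ CycAlg.FinCoh R φ₂ ψ₂) ∨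
      (CycAlg.FinCoh R φ₁ ψ₁ ∧ CycAlg.FinCoh R φ₃ ψ₃) ∨
      (CycAlg.FinCoh R φ₂ ψ₂ ∧ CycAlg.FinCoh R φ₃ ψ₃)) :
    CycAlg.FinCoh R φ₁ ψ₁ ∧ CycAlg.FinCoh R φ₂ ψ₂ ∧ CycAlg.FinCoh R φ₃ ψ₃ ∧
      CycAlg.herbrand R φ₂ ψ₂ = CycAlg.herbrand R φ₁ ψ₁ + CycAlg.herbrand R φ₃ ψ₃ := by
  let X := S.hexagon
  have key : CycAlg.FinCoh R φ₁ ψ₁ ∧ CycAlg.FinCoh R φ₂ ψ₂ ∧ CycAlg.FinCoh R φ₃ ψ₃ := by
    rcases htwo with ⟨h, h'⟩ | ⟨h, h'⟩ | ⟨h, h'⟩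
    · exact ⟨h, h', X.rotate.lt_top h'.1 h.2, X.rotate.rotate.rotate.rotate.lt_top h'.2 h.1⟩
    · exact ⟨h, ⟨X.lt_top h.1 h'.1, X.rotate.rotate.rotate.lt_top h.2 h'.2⟩, h'⟩
    · exact ⟨⟨X.rotate.rotate.rotate.rotate.rotate.lt_top h'.2 h.1, X.rotate.rotate.lt_top h'.1 h.2⟩,
        h, h'⟩
  obtain ⟨h₁, h₂, h₃⟩ := key
  refine ⟨h₁, h₂, h₃, ?_⟩
  have := X.alternating h₁.1 h₂.1 h₃.1 h₁.2 h₂.2 h₃.2
  simp only [CycAlg.herbrand]
  omega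

end SES

end SES

theorem herbrand_of_finite (φ : M →ₗ[R] N) (ψ : N →ₗ[R] M) (h₁ : ∀ y, φ (ψ y) = 0)
    (h₂ : ∀ y, ψ (φ y) = 0) (hM : Module.length R M < ⊤) (hN : Module.length R N < ⊤) :
    CycAlg.FinCoh R φ ψ ∧ CycAlg.herbrand R φ ψ =
      ((Module.length R M).toNat : ℤ) - ((Module.length R N).toNat : ℤ) := by
  have hk : ∀ {A B : Type v} [AddCommGroup A] [Module R A] [AddCommGroup B] [Module R B]
      (f : A →ₗ[R] B) (g : B →ₗ[R] A), (∀ y, f (g y) = 0) →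
      Module.length R (ker f) = Module.length R (range g) + Module.length R (CycAlg.perH f g) := by
    intro A B _ _ _ _ f g h
    have hle : range g ≤ ker f := by rintro _ ⟨y, rfl⟩; exact h y
    rw [← (Submodule.submoduleOfEquivOfLe hle).length_eq]
    exact Module.length_eq_add_of_exact _ _ Subtype.val_injective (Submodule.mkQ_surjective _)
      (LinearMap.exact_subtype_mkQ _)
  have e1 := length_eq_ker_add_range φ
  have e2 := length_eq_ker_add_range ψ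
  rw [hk φ ψ h₁] at e1
  rw [hk ψ φ h₂] at e2
  rw [e1, ENat.add_lt_top, ENat.add_lt_top] at hM
  rw [e2, ENat.add_lt_top, ENat.add_lt_top] at hN
  refine ⟨⟨hM.1.2, hN.1.2⟩, ?_⟩
  simp only [CycAlg.herbrand, e1, e2]
  rw [toNat_add (ENat.add_lt_top.2 hM.1) hM.2, toNat_add hM.1.1 hM.1.2,
    toNat_add (ENat.add_lt_top.2 hN.1) hN.2, toNat_add hN.1.1 hN.1.2]
  push_cast
  ring

/-- A morphism with kernel and cokernel of finite length preserves the Herbrand quotient. -/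
theorem herbrand_eq_of_finite {φ ψ : M →ₗ[R] M} {φ' ψ' : M' →ₗ[R] M'}
    (p : ∀ y, φ (ψ y) = 0) (q : ∀ y, ψ (φ y) = 0) (p' : ∀ y, φ' (ψ' y) = 0)
    (q' : ∀ y, ψ' (φ' y) = 0) (f : M →ₗ[R] M') (cφ : ∀ x, φ' (f x) = f (φ x))
    (cψ : ∀ x, ψ' (f x) = f (ψ x)) (hfin : CycAlg.FinCoh R φ ψ)
    (hker : Module.length R (ker f) < ⊤) (hcoker : Module.length R (M' ⧸ range f) < ⊤) :
    CycAlg.herbrand R φ ψ = CycAlg.herbrand R φ' ψ' := by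
  have hkφ : ∀ x ∈ ker f, φ x ∈ ker f := fun x hx => by
    rw [LinearMap.mem_ker, ← cφ, show f x = 0 from hx, map_zero]
  have hkψ : ∀ x ∈ ker f, ψ x ∈ ker f := fun x hx => by
    rw [LinearMap.mem_ker, ← cψ, show f x = 0 from hx, map_zero]
  have hrφ : ∀ x ∈ range f, φ' x ∈ range f := by
    rintro _ ⟨x, rfl⟩; exact ⟨φ x, (cφ x).symm⟩
  have hrψ : ∀ x ∈ range f, ψ' x ∈ range f := by
    rintro _ ⟨x, rfl⟩; exact ⟨ψ x, (cψ x).symm⟩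
  have S₁ : SES (φ.restrict hkφ) (ψ.restrict hkψ) φ ψ (φ'.restrict hrφ) (ψ'.restrict hrψ)
      (ker f).subtype (ker f).subtype f.rangeRestrict f.rangeRestrict :=
    ⟨fun y => Subtype.ext (p y.1), fun y => Subtype.ext (q y.1), p, q, fun _ => rfl, fun _ => rfl,
      fun x => Subtype.ext (cφ x), fun x => Subtype.ext (cψ x), Subtype.val_injective,
      Subtype.val_injective, f.surjective_rangeRestrict, f.surjective_rangeRestrict,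
      LinearMap.exact_iff.2 (by rw [LinearMap.ker_rangeRestrict, Submodule.range_subtype]),
      LinearMap.exact_iff.2 (by rw [LinearMap.ker_rangeRestrict, Submodule.range_subtype])⟩
  have S₂ : SES (φ'.restrict hrφ) (ψ'.restrict hrψ) φ' ψ'
      ((range f).mapQ (range f) φ' hrφ) ((range f).mapQ (range f) ψ' hrψ)
      (range f).subtype (range f).subtype (range f).mkQ (range f).mkQ :=
    ⟨fun y => Subtype.ext (p' y.1), fun y => Subtype.ext (q' y.1), p', q', fun _ => rfl,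
      fun _ => rfl, fun _ => rfl, fun _ => rfl, Subtype.val_injective, Subtype.val_injective,
      Submodule.mkQ_surjective _, Submodule.mkQ_surjective _, LinearMap.exact_subtype_mkQ _,
      LinearMap.exact_subtype_mkQ _⟩
  obtain ⟨a1, a2⟩ := herbrand_of_finite _ _ S₁.p₁ S₁.q₁ hker hker
  obtain ⟨b1, b2⟩ := herbrand_of_finite ((range f).mapQ (range f) φ' hrφ)
    ((range f).mapQ (range f) ψ' hrψ)
    (fun y => by
      obtain ⟨y, rfl⟩ := Submodule.Quotient.mk_surjective _ y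
      exact congrArg Submodule.Quotient.mk (p' y))
    (fun y => by
      obtain ⟨y, rfl⟩ := Submodule.Quotient.mk_surjective _ y
      exact congrArg Submodule.Quotient.mk (q' y))
    hcoker hcoker
  obtain ⟨-, -, c1, c2⟩ := S₁.herbrand_eq (Or.inl ⟨a1, hfin⟩)
  obtain ⟨-, -, -, d2⟩ := S₂.herbrand_eq (Or.inr (Or.inl ⟨c1, b1⟩))
  rw [c2, d2, a2, b2]
  ring

end Groth.Agent.Lib.CycAlg.Per
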