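import Groth.Agent.Lib.CycAlg.Per
import Mathlib.Algebra.Module.LinearMap.End
import Mathlib.Tactic.Ring
import Mathlib.Tactic.Linarith

/-!
# Powers of a nilpotent endomorphism
-/

universe u v

namespace Groth.Agent.Lib.CycAlg.Pow

open LinearMap Submodule Groth.Agent.Lib.CycAlg.Per

variable {R : Type u} [CommRing R] {M : Type v} [AddCommGroup M] [Module R M] {φ : M →ₗ[R] M}

theorem add_apply (a b : ℕ) (z : M) : (φ ^ (a + b)) z = (φ ^ a) ((φ ^ b) z) := by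
  rw [pow_add]; rfl

theorem apply_eq_zero {a b : ℕ} (h : a ≤ b) {z : M} (hz : (φ ^ a) z = 0) : (φ ^ b) z = 0 := by
  obtain ⟨c, rfl⟩ := Nat.exists_eq_add_of_le h
  rw [add_comm, add_apply, hz, map_zero]

theorem exists_preimage {a b : ℕ} (h : a ≤ b) (y : M) : ∃ y', (φ ^ a) y' = (φ ^ b) y := by
  obtain ⟨c, rfl⟩ := Nat.exists_eq_add_of_le h
  exact ⟨(φ ^ c) y, (add_apply a c y).symm⟩

/-- the map between cohomology groups induced by `φ ^ m` -/
noncomputable def powMap (φ : M →ₗ[R] M) {a b a' b' : ℕ} (m : ℕ) (ha : a ≤ a' + m) (hb : b' ≤ m + b) :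
    CycAlg.perH (φ ^ a) (φ ^ b) →ₗ[R] CycAlg.perH (φ ^ a') (φ ^ b') :=
  Per.map (φ ^ m) (fun z hz => by rw [← add_apply]; exact apply_eq_zero ha hz)
    (fun y _ => by rw [← add_apply]; exact exists_preimage hb y)

/-- An inclusion followed by a power is exact. -/
theorem exact_powMap {a b a' b' a'' b'' : ℕ} (ha : a ≤ a' + 0) (hb : b' ≤ 0 + b)
    (ha' : a' ≤ a'' + a) (hb' : b'' ≤ a + b') (he : a + b' = b'') :
    Function.Exact (powMap φ 0 ha hb) (powMap φ a ha' hb') := by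
  subst he
  intro c
  obtain ⟨⟨z, hz⟩, rfl⟩ := cls_surjective c
  constructor
  · intro hc
    obtain ⟨y, hy⟩ := (cls_eq_zero (φ := φ ^ a'') (ψ := φ ^ (a + b')) _).1 hc
    refine ⟨cls _ _ ⟨z - (φ ^ b') y, ?_⟩, (cls_eq_iff (φ := φ ^ a') (ψ := φ ^ b') _ _).2 ⟨-y, ?_⟩⟩
    · rw [LinearMap.mem_ker, map_sub, ← add_apply]
      exact sub_eq_zero.2 hy.symm
    · show (φ ^ b') (-y) = (φ ^ 0) (z - (φ ^ b') y) - z
      rw [map_neg, pow_zero]
      show -_ = z - _ - z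
      abel
  · rintro ⟨d, hd⟩
    obtain ⟨⟨x, hx⟩, rfl⟩ := cls_surjective d
    rw [← hd]
    refine (cls_eq_zero _).2 ⟨0, ?_⟩
    show (φ ^ (a + b')) 0 = (φ ^ a) ((φ ^ 0) x)
    rw [map_zero, pow_zero]
    exact hx.symm

/-- A nonzero power followed by an inclusion is exact. -/
theorem exact_powMap' {a b a' b' a'' b'' : ℕ} (m : ℕ) (ha : a ≤ a' + m) (hb : b' ≤ m + b)
    (ha' : a' ≤ a'' + 0) (hb' : b'' ≤ 0 + b') (he : b'' = m) (he' : a' + m = a) :
    Function.Exact (powMap φ m ha hb) (powMap φ 0 ha' hb') := by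
  subst he he'
  intro c
  obtain ⟨⟨z, hz⟩, rfl⟩ := cls_surjective c
  constructor
  · intro hc
    obtain ⟨y, hy⟩ := (cls_eq_zero (φ := φ ^ a'') (ψ := φ ^ b'') _).1 hc
    have hy' : (φ ^ b'') y = z := hy
    refine ⟨cls _ _ ⟨y, ?_⟩, (cls_eq_iff (φ := φ ^ a') (ψ := φ ^ b') _ _).2 ⟨0, ?_⟩⟩
    · rw [LinearMap.mem_ker, add_apply, hy']
      exact hz
    · show (φ ^ b') 0 = (φ ^ b'') y - z
      rw [map_zero, hy', sub_self]
  · rintro ⟨d, hd⟩
    obtain ⟨⟨x, hx⟩, rfl⟩ := cls_surjective d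
    rw [← hd]
    exact (cls_eq_zero _).2 ⟨x, rfl⟩

/-- The hexagon comparing the exponents `i` and `i + 1`. -/
noncomputable def hexagon (φ : M →ₗ[R] M) (n i : ℕ) (hi : 1 ≤ i) (hi' : i + 2 ≤ n) :
    Hexagon (R := R) (CycAlg.perH (φ ^ 1) (φ ^ (n - 1))) (CycAlg.perH (φ ^ (i + 1)) (φ ^ (n - i - 1)))
      (CycAlg.perH (φ ^ i) (φ ^ (n - i))) (CycAlg.perH (φ ^ (n - 1)) (φ ^ 1))
      (CycAlg.perH (φ ^ (n - i - 1)) (φ ^ (i + 1))) (CycAlg.perH (φ ^ (n - i)) (φ ^ i)) where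
  f₁ := powMap φ 0 (by omega) (by omega)
  f₂ := powMap φ 1 (by omega) (by omega)
  f₃ := powMap φ 0 (by omega) (by omega)
  f₄ := powMap φ i (by omega) (by omega)
  f₅ := powMap φ 0 (by omega) (by omega)
  f₆ := powMap φ (n - i - 1) (by omega) (by omega)
  ex₁ := exact_powMap' _ _ _ _ _ (by omega) (by omega)
  ex₂ := exact_powMap _ _ _ _ (by omega)
  ex₃ := exact_powMap' _ _ _ _ _ (by omega) (by omega)
  ex₄ := exact_powMap _ _ _ _ (by omega)
  ex₅ := exact_powMap' _ _ _ _ _ (by omega) (by omega)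
  ex₆ := exact_powMap _ _ _ _ (by omega)

theorem finite_mid (n : ℕ) (hfin : Module.length R (CycAlg.perH (φ ^ 1) (φ ^ (n - 1))) < ⊤) (j : ℕ)
    (hj : 1 ≤ j) (hj' : j + 1 ≤ n) :
    Module.length R (CycAlg.perH (φ ^ j) (φ ^ (n - j))) < ⊤ := by
  induction j with
  | zero => omega
  | succ j ih =>
    rcases Nat.eq_zero_or_pos j with rfl | hj0
    · exact hfin
    · rw [← Nat.sub_sub]
      exact (hexagon φ n j hj0 (by omega)).lt_top hfin (ih hj0 (by omega))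

theorem herbrand_pow (n : ℕ) (hn : 0 < n) (hφ : φ ^ n = 0)
    (hfin : Module.length R (CycAlg.perH φ (φ ^ (n - 1))) < ⊤) (i : ℕ) (hi : i ≤ n) :
    CycAlg.FinCoh R (φ ^ i) (φ ^ (n - i)) ∧ CycAlg.herbrand R (φ ^ i) (φ ^ (n - i)) = 0 := by
  replace hfin : Module.length R (CycAlg.perH (φ ^ 1) (φ ^ (n - 1))) < ⊤ :=
    (congrArg (fun f : M →ₗ[R] M => Module.length R (CycAlg.perH f (φ ^ (n - 1)))) (pow_one φ)).trans_lt hfin
  have hs₀ : Subsingleton (CycAlg.perH (φ ^ 0) (φ ^ n)) := by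
    refine ⟨fun a b => ?_⟩
    obtain ⟨⟨z, hz⟩, rfl⟩ := cls_surjective a
    obtain ⟨⟨w, hw⟩, rfl⟩ := cls_surjective b
    obtain rfl : z = 0 := by simpa using hz
    obtain rfl : w = 0 := by simpa using hw
    rfl
  have hs₁ : Subsingleton (CycAlg.perH (φ ^ n) (φ ^ 0)) := by
    refine ⟨fun a b => ?_⟩
    obtain ⟨z, rfl⟩ := cls_surjective a
    obtain ⟨w, rfl⟩ := cls_surjective b
    exact (cls_eq_iff _ _).2 ⟨z.1 - w.1, by rw [pow_zero]; rfl⟩
  have hz : CycAlg.FinCoh R (φ ^ 0) (φ ^ n) ∧ CycAlg.FinCoh R (φ ^ n) (φ ^ 0) ∧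
      CycAlg.herbrand R (φ ^ 0) (φ ^ n) = 0 ∧ CycAlg.herbrand R (φ ^ n) (φ ^ 0) = 0 := by
    simp [CycAlg.FinCoh, CycAlg.herbrand, Module.length_eq_zero]
  rcases Nat.eq_zero_or_pos i with rfl | hi0
  · rw [Nat.sub_zero]; exact ⟨hz.1, hz.2.2.1⟩
  rcases hi.lt_or_eq with hlt | rfl
  swap
  · rw [Nat.sub_self]; exact ⟨hz.2.1, hz.2.2.2⟩
  have hf : ∀ j, 1 ≤ j → j + 1 ≤ n → CycAlg.FinCoh R (φ ^ j) (φ ^ (n - j)) := by
    intro j h1 h2
    refine ⟨finite_mid n hfin j h1 h2, ?_⟩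
    have := finite_mid n hfin (n - j) (by omega) (by omega)
    rwa [Nat.sub_sub_self (by omega : j ≤ n)] at this
  let e : ℕ → ℤ := fun j => CycAlg.herbrand R (φ ^ j) (φ ^ (n - j))
  have hstep : ∀ j, 1 ≤ j → j + 2 ≤ n → e (j + 1) = e j + e 1 := by
    intro j h1 h2
    have a1 := hf j h1 (by omega)
    have a2 := hf (j + 1) (by omega) (by omega)
    have a3 := hf 1 le_rfl (by omega)
    rw [← Nat.sub_sub] at a2
    have := (hexagon φ n j h1 h2).alternating a3.1 a2.1 a1.1 a3.2 a2.2 a1.2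
    simp only [e, CycAlg.herbrand]
    rw [(Nat.sub_sub n j 1).symm]
    omega
  have hlin : ∀ j, 1 ≤ j → j + 1 ≤ n → e j = j * e 1 := by
    intro j
    induction j with
    | zero => omega
    | succ j ih =>
      intro _ h2
      rcases Nat.eq_zero_or_pos j with rfl | hj0
      · simp
      · rw [hstep j hj0 (by omega), ih hj0 (by omega)]
        push_cast
        ring
  have hanti : e (n - 1) = -e 1 := by
    show CycAlg.herbrand R (φ ^ (n - 1)) (φ ^ (n - (n - 1))) = -_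
    rw [Nat.sub_sub_self (by omega : 1 ≤ n)]
    simp only [e, CycAlg.herbrand]
    omega
  rw [hlin (n - 1) (by omega) (by omega)] at hanti
  have he1 : e 1 = 0 := by
    have : ((n - 1 : ℕ) : ℤ) + 1 ≠ 0 := by omega
    exact (mul_eq_zero.1 (show (((n - 1 : ℕ) : ℤ) + 1) * e 1 = 0 by linarith)).resolve_left this
  exact ⟨hf i hi0 hlt, by
    have := hlin i hi0 hlt
    rw [he1, mul_zero] at this
    exact this⟩

end Groth.Agent.Lib.CycAlg.Pow
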